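import Cfsg.Agent.Lib.Chev.All
import Cfsg.Agent.Lib.Chev.Parabolic
/-
Table facts about E8 and its branch node (index 3): levels of roots, used for the iterated core example.
-/
set_option autoImplicit false
set_option maxRecDepth 100000

namespace CfsgLib.IterCore

open Cfsg.Lie CfsgLib.Chev

/-- the coefficient of root `r` on the branch node -/
noncomputable def levN (r : ℕ) : ℤ := wt chevE8 E8.tabs r 3

/-- reflection of a root in the i-th fundamental root -/
noncomputable def sN (i r : ℕ) : ℕ := sig chevE8 E8.tabs i r

noncomputable def maxTest : Bool :=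
  allNat 240 fun r => decide (levN r ≤ 6) && decide (levN r - 1 ≤ levN (sN 3 r) ∨ levN r ≤ 1)

noncomputable def keepTest : Bool :=
  allNat 8 fun j => Nat.beq j 3 || allNat 240 fun r => decide (levN (sN j r) = levN r)

noncomputable def descentTest : Bool :=
  allNat 240 fun r => cond (decide (levN r ≤ 0)) true
    ((anyNat 8 fun j => (!Nat.beq j 3) && Nat.blt (sN j r) r) ||
      allNat 240 fun s => cond (decide (levN s = levN r)) (Nat.ble r s) true)

noncomputable def badTest : Bool :=
  allNat 6 fun l => anyNat 240 fun r => cond (decide (levN r = (l : ℤ) + 1)) (decide (levN (sN 3 r) < levN r)) false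

/-- neighbours of the branch node: the image of every root in the span of the two -/
noncomputable def nbrTest : Bool :=
  allList (fun j => decide (sN j (chevE8.simple 3) < 240 ∧ 1 ≤ levN (sN j (chevE8.simple 3)) ∧
      1 ≤ wt chevE8 E8.tabs (sN j (chevE8.simple 3)) j) &&
    allNat 240 fun v => cond
      (decide (1 ≤ wt chevE8 E8.tabs v j) && allNat 8 fun l => Nat.beq l 3 || Nat.beq l j || decide (wt chevE8 E8.tabs v l = 0))
      (Nat.blt (sN 3 (sN j (sN 3 v))) 120) true) [1, 2, 4]

/-- adjacent pairs (j, k) used to propagate -/
def chainPairs : List (ℕ × ℕ) := [(0, 2), (5, 4), (6, 5), (7, 6)]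

noncomputable def braidTest : Bool :=
  allList (fun p : ℕ × ℕ => (!Nat.beq (sN p.1 (chevE8.simple p.2)) (chevE8.simple p.2)) &&
    (allNat 240 fun r => Nat.beq (sN p.1 (sN p.2 (sN p.1 (sN p.2 (sN p.1 r))))) (sN p.2 r))) chainPairs

theorem max_ok : maxTest = true := by decide +kernel
theorem keep_ok : keepTest = true := by decide +kernel
theorem descent_ok : descentTest = true := by decide +kernel
theorem bad_ok : badTest = true := by decide +kernel
theorem nbr_ok : nbrTest = true := by decide +kernel
theorem braid_ok : braidTest = true := by decide +kernel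

end CfsgLib.IterCore
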