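import Mathlib
/-
Iterated relative cores of a subgroup and a conjugate by an involution.
-/
set_option autoImplicit false

namespace CfsgLib.IterCore

variable {G : Type*} [Group G]

/-- the largest subgroup of `X ⊓ M` invariant under `M` -/
def coreIn (M X : Subgroup G) : Subgroup G := (X.subgroupOf M).normalCore.map M.subtype

theorem mem_coreIn {M X : Subgroup G} {y : G} :
    y ∈ coreIn M X ↔ y ∈ M ∧ ∀ m ∈ M, m * y * m⁻¹ ∈ X := by
  constructor
  · rintro ⟨z, hz, rfl⟩
    exact ⟨z.2, fun m hm => hz ⟨m, hm⟩⟩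
  · rintro ⟨hy, h⟩
    exact ⟨⟨y, hy⟩, fun m => h m m.2, rfl⟩

theorem map_coreIn (g : G) (M X : Subgroup G) :
    (coreIn M X).map (MulAut.conj g).toMonoidHom =
      coreIn (M.map (MulAut.conj g).toMonoidHom) (X.map (MulAut.conj g).toMonoidHom) := by
  ext y
  simp only [Subgroup.mem_map_equiv, MulAut.conj_symm_apply, mem_coreIn]
  constructor
  · rintro ⟨h1, h2⟩
    refine ⟨h1, fun m hm => ?_⟩
    have := h2 _ hm
    rwa [show g⁻¹ * m * g * (g⁻¹ * y * g) * (g⁻¹ * m * g)⁻¹ = g⁻¹ * (m * y * m⁻¹) * g by group] at this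
  · rintro ⟨h1, h2⟩
    refine ⟨h1, fun m hm => ?_⟩
    have := h2 (g * m * g⁻¹) (by simpa [mul_assoc] using hm)
    rwa [show g⁻¹ * (g * m * g⁻¹ * y * (g * m * g⁻¹)⁻¹) * g = m * (g⁻¹ * y * g) * m⁻¹ by group] at this

/-- the iterated cores -/
def iterA (M : Subgroup G) (g : G) : ℕ → Subgroup G
  | 0 => M
  | i + 1 => coreIn M (iterA M g i ⊓ (iterA M g i).map (MulAut.conj g).toMonoidHom)

theorem iterA_le (M : Subgroup G) (g : G) : ∀ i, iterA M g i ≤ M
  | 0 => le_rfl
  | _ + 1 => fun _ h => (mem_coreIn.1 h).1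

theorem iterA_conj (M : Subgroup G) (g : G) : ∀ i, ∀ m ∈ M, ∀ x ∈ iterA M g i, m * x * m⁻¹ ∈ iterA M g i
  | 0 => fun _ hm _ hx => mul_mem (mul_mem hm hx) (inv_mem hm)
  | i + 1 => fun m hm x hx => by
      obtain ⟨h1, h2⟩ := mem_coreIn.1 hx
      refine mem_coreIn.2 ⟨mul_mem (mul_mem hm h1) (inv_mem hm), fun n hn => ?_⟩
      have := h2 (n * m) (mul_mem hn hm)
      rwa [show n * m * x * (n * m)⁻¹ = n * (m * x * m⁻¹) * n⁻¹ by group] at this

theorem iterB_succ (M : Subgroup G) {g : G} (hg : g * g = 1) (i : ℕ) :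
    (iterA M g (i + 1)).map (MulAut.conj g).toMonoidHom =
      coreIn (M.map (MulAut.conj g).toMonoidHom) (iterA M g i ⊓ (iterA M g i).map (MulAut.conj g).toMonoidHom) := by
  rw [iterA, map_coreIn]
  congr 1
  have hinv : g⁻¹ = g := inv_eq_of_mul_eq_one_left hg
  ext y
  simp only [Subgroup.mem_map_equiv, Subgroup.mem_inf, MulAut.conj_symm_apply, hinv]
  rw [show g * (g * y * g) * g = (g * g) * y * (g * g) by group, hg, one_mul, mul_one]
  exact And.comm

theorem core_le_iterA (M : Subgroup G) (g : G) : ∀ i, M.normalCore ≤ iterA M g i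
  | 0 => Subgroup.normalCore_le M
  | i + 1 => fun x hx => by
      refine mem_coreIn.2 ⟨Subgroup.normalCore_le M hx, fun m _ => ?_⟩
      have h1 := (Subgroup.normalCore_normal M).conj_mem x hx m
      refine ⟨core_le_iterA M g i h1, ?_⟩
      have h2 := (Subgroup.normalCore_normal M).conj_mem _ h1 g⁻¹
      exact Subgroup.mem_map_equiv.2 (core_le_iterA M g i (by simpa [mul_assoc] using h2))

end CfsgLib.IterCore
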