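import Cfsg.Agent.Lib.IterCore.Levels
/-
Normal subgroups of the branch-node parabolic P of E8(2) inside P ∩ P^n sink one level at a time.
-/
set_option autoImplicit false
set_option linter.unusedSectionVars false
set_option maxRecDepth 4000

namespace CfsgLib.IterCore

open Cfsg.Lie CfsgLib.Chev

local notation "F2" => ZMod 2

attribute [local irreducible] chevE8SimpleIdx chevE8NegIdx chevE8Coroot chevE8CartanSR chevE8Chain E8.tabs

/-- the fundamental indices other than the branch node -/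
def J3 : Set ℕ := {i | i ≠ 3}

/-- the parabolic subgroup -/
noncomputable def Pm : Subgroup (GL Dt.Idx F2) := Dt.parabolicSubgroup F2 J3

theorem borel_le_Pm : Dt.borelSubgroup F2 ≤ Pm := le_sup_left

theorem borel_eq : Dt.borelSubgroup F2 = uGen Dt F2 (fun r => Dt.nroots / 2 ≤ r) := by
  rw [ChevalleyDatum.borelSubgroup, diag_bot, sup_bot_eq, posUnipotent_eq hc]

theorem Pm_le_group : Pm ≤ Dt.group F2 := by
  rw [Pm, ← normalizer_radical hc hcomm J3]; exact inf_le_right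

theorem nn_mem_group (i : Fin Dt.rank) : nn i ∈ Dt.group F2 := elN_mem_group hc (simple_lt hc i.2) 1

theorem nn_mem_Pm {j : Fin Dt.rank} (hj : (j : ℕ) ≠ 3) : nn j ∈ Pm := elN_mem_parabolic hc (J := J3) hj

theorem U_le_Pm {l : ℕ} (hl : 1 ≤ l) : U l ≤ Pm := ((U_le_pos hl).trans (pos_le_borel hc)).trans borel_le_Pm

theorem U_normal {l : ℕ} (hl : 1 ≤ l) : Pm ≤ Subgroup.normalizer (U l : Set (GL Dt.Idx F2)) := by
  rw [Pm, parabolic_gen hc J3, U]
  refine sup_le (diagonal_le_normalizer hc _) ?_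
  rw [uGen_le_iff]
  intro r hr hP t
  have h0 : 0 ≤ levN r := by
    rcases hP with h | h
    · exact lev_nonneg hr h
    · rw [lev_eq, ((inRootSub_iff hc).1 h).2 b3 (by simp [J3, fi])]
  refine elX_mem_normalizer hc hcomm hr (fun s hs hS _ => ⟨?_, fun v hv => ?_⟩) t
  · rintro rfl
    have h1 : (l : ℤ) ≤ levN (Dt.neg r) := hS
    rw [lev_eq, rv_neg hc hr, Pi.neg_apply, ← lev_eq] at h1
    omega
  · obtain ⟨i, j, hi, hj, e⟩ := lev_comb hv
    simp only [Lv] at hS ⊢
    rw [e]; nlinarith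

theorem U_conj {l : ℕ} (hl : 1 ≤ l) {p x : GL Dt.Idx F2} (hp : p ∈ Pm) (hx : x ∈ U l) : p * x * p⁻¹ ∈ U l :=
  (Subgroup.mem_normalizer_iff.1 (U_normal hl hp) x).1 hx

theorem U_conj_sub {l : ℕ} (hl : 1 ≤ l) {x : GL Dt.Idx F2} (hx : x ∈ U (l + 1)) :
    nn b3 * x * (nn b3)⁻¹ ∈ U l := by
  refine nn_conj b3 (fun s hs hS => ?_) hx
  have h1 : ((l + 1 : ℕ) : ℤ) ≤ levN s := hS
  have := lev_sig3 hs (by push_cast at h1; omega)
  show (l : ℤ) ≤ levN (sN 3 s)
  push_cast at h1; omega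

theorem unit_F2 {a : F2} (h : a ≠ 0) : a = 1 := by revert a; decide

theorem elX_neg3_not_mem {t : F2} (ht : t ≠ 0) : elX Dt F2 (Dt.neg (Dt.simple 3)) t ∉ Pm := by
  intro h
  rw [unit_F2 ht] at h
  have h3 := simple_lt hc (show 3 < Dt.rank by decide)
  have hn : elN Dt F2 (Dt.simple 3) 1 ∈ Pm := by
    unfold elN
    refine mul_mem (mul_mem ?_ ?_) ?_
    · exact borel_le_Pm (elX_mem_borel hc h3 (half_le_simple hc (by decide)) _)
    · rw [inv_one, show (-(1 : F2)) = 1 from by decide]; exact h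
    · exact borel_le_Pm (elX_mem_borel hc h3 (half_le_simple hc (by decide)) _)
  have hx : elX Dt F2 (Dt.simple 3) 1 ∈ U 1 := elX_mem_uGen h3 (by
    show ((1 : ℕ) : ℤ) ≤ levN (Dt.simple 3)
    rw [lev_eq, show (3 : ℕ) = (b3 : Fin Dt.rank).val from rfl, rv_simple hc, Pi.single_eq_same]; rfl) 1
  have h1 := U_conj le_rfl hn hx
  rw [show Dt.simple 3 = Dt.simple (b3 : Fin Dt.rank).val from rfl, nOne_conj_elX hc b3 (simple_lt hc b3.2),
    sig_simple hc] at h1
  have hs := sig_lt hc b3 (simple_lt hc b3.2)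
  rw [sig_simple hc] at hs
  refine elX_not_mem_borel hc hs ?_ ?_ (pos_le_borel hc (U_le_pos le_rfl h1))
  · have := neg_eq hc (simple_lt hc b3.2)
    have := half_le_simple hc b3.2
    have := nroots_eq_two_mul hc
    omega
  · rcases eta_cast hc (F := F2) b3 (simple_lt hc b3.2) with e | e <;> simp [e]

theorem nn3_not_mem : nn b3 ∉ Pm := by
  intro h
  have h3 := simple_lt hc b3.2
  have h1 := mul_mem (mul_mem h (borel_le_Pm (elX_mem_borel hc h3 (half_le_simple hc b3.2) (1 : F2)))) (inv_mem h)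
  rw [nn, nOne_conj_elX hc b3 h3, sig_simple hc] at h1
  exact elX_neg3_not_mem (by rcases eta_cast hc (F := F2) b3 h3 with e | e <;> simp [e]) h1

/-- a subgroup containing B is inside another as soon as the fundamental n-elements are -/
theorem le_of_nn {M K : Subgroup (GL Dt.Idx F2)} (hBM : Dt.borelSubgroup F2 ≤ M) (hMG : M ≤ Dt.group F2)
    (hBK : Dt.borelSubgroup F2 ≤ K) (h : ∀ i : Fin Dt.rank, nn i ∈ M → nn i ∈ K) : M ≤ K := by
  obtain ⟨P, hPB, -, hPS⟩ := exists_bnPair hc hcomm (F := F2)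
  intro x hx
  have hB : P.B ≤ M.subgroupOf (Dt.group F2) := by
    rw [hPB]; exact fun y hy => Subgroup.mem_subgroupOf.2 (hBM (Subgroup.mem_subgroupOf.1 hy))
  have hle : P.parabolic {s | s ∈ P.S ∧ s ∈ M.subgroupOf (Dt.group F2)} ≤ K.subgroupOf (Dt.group F2) := by
    refine sup_le ?_ ((Subgroup.closure_le _).2 ?_)
    · rw [hPB]; exact fun y hy => Subgroup.mem_subgroupOf.2 (hBK (Subgroup.mem_subgroupOf.1 hy))
    · rintro s ⟨hs, hsM⟩
      rw [hPS] at hs
      obtain ⟨i, hi, he⟩ := hs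
      have e : (s : GL Dt.Idx F2) = nn ⟨i, hi⟩ := by
        ext1; rw [he, nn, coe_elN hc (simple_lt hc hi)]
      rw [SetLike.mem_coe, Subgroup.mem_subgroupOf, e]
      rw [Subgroup.mem_subgroupOf, e] at hsM
      exact h _ hsM
  rw [← CfsgLib.BN.eq_parabolic P hB] at hle
  exact Subgroup.mem_subgroupOf.1 (hle (x := ⟨x, hMG hx⟩) (Subgroup.mem_subgroupOf.2 hx))

/-- the parabolic subgroup is maximal -/
theorem eq_of_Pm_le {M : Subgroup (GL Dt.Idx F2)} (hPM : Pm ≤ M) (hMG : M ≤ Dt.group F2) :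
    M = Pm ∨ M = Dt.group F2 := by
  by_cases h3 : nn b3 ∈ M
  · right
    refine le_antisymm hMG ?_
    rw [group_eq hc, uGen_le_iff]
    intro r hr _ t
    refine sub_root_mem hc (J := Set.univ) (fun i _ => ?_) (fun i _ t => ?_) r ?_ t
    · by_cases hi : (i : ℕ) = 3
      · have : i = b3 := Fin.ext hi
        subst this; exact h3
      · exact hPM (nn_mem_Pm hi)
    · exact hPM (borel_le_Pm (elX_mem_borel hc (simple_lt hc i.2) (half_le_simple hc i.2) t))
    · exact (inRootSub_iff hc).2 ⟨hr, fun i hi => absurd (Set.mem_univ _) hi⟩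
  · left
    refine le_antisymm (le_of_nn (borel_le_Pm.trans hPM) hMG borel_le_Pm fun i hi => ?_) hPM
    refine nn_mem_Pm fun e => h3 ?_
    have : i = b3 := Fin.ext e
    exact this ▸ hi

/-- invariance under P -/
def Inv (N : Subgroup (GL Dt.Idx F2)) : Prop := ∀ p ∈ Pm, ∀ x ∈ N, p * x * p⁻¹ ∈ N

theorem conj_prod (i : Fin Dt.rank) (a x : GL Dt.Idx F2) :
    nn i * (a * x) * nn i = (nn i * a * nn i) * (nn i * x * nn i) := by
  simp only [mul_assoc]
  rw [← mul_assoc (nn i) (nn i), nn_sq, one_mul]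

theorem le_normalizer_of_inv {N : Subgroup (GL Dt.Idx F2)} (hN : Inv N) :
    Dt.borelSubgroup F2 ≤ Subgroup.normalizer (N : Set (GL Dt.Idx F2)) := by
  intro b hb
  rw [Subgroup.mem_normalizer_iff]
  refine fun x => ⟨hN b (borel_le_Pm hb) x, fun hx => ?_⟩
  have := hN _ (inv_mem (borel_le_Pm hb)) _ hx
  rwa [inv_inv, show b⁻¹ * (b * x * b⁻¹) * b = x by group] at this

theorem mem_sup_borel {N : Subgroup (GL Dt.Idx F2)} (hN : Inv N) {g : GL Dt.Idx F2}
    (hg : g ∈ N ⊔ Dt.borelSubgroup F2) :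
    ∃ q ∈ N, ∃ b ∈ uGen Dt F2 (fun r => Dt.nroots / 2 ≤ r), g = q * b := by
  rw [← SetLike.mem_coe, Subgroup.coe_mul_of_right_le_normalizer_left _ _ (le_normalizer_of_inv hN)] at hg
  obtain ⟨q, hq, b, hb, rfl⟩ := hg
  exact ⟨q, hq, b, borel_eq ▸ hb, rfl⟩

theorem nProd_conj_uGen (L : List (Fin Dt.rank)) {P Q : ℕ → Prop}
    (h : ∀ s, s < Dt.nroots → P s → Q (sigs Dt E8.tabs L s)) {x : GL Dt.Idx F2} (hx : x ∈ uGen Dt F2 P) :
    nProd Dt F2 L * x * (nProd Dt F2 L)⁻¹ ∈ uGen Dt F2 Q := by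
  induction hx using Subgroup.closure_induction with
  | mem w hw =>
      obtain ⟨s, c, hs, hP, rfl⟩ := hw
      obtain ⟨d, -, hd⟩ := nProd_conj_elX hc (F := F2) L hs
      rw [hd]
      exact elX_mem_uGen (sigs_lt hc _ hs) (h s hs hP) _
  | one => simp
  | mul a b _ _ ha hb =>
      rw [show ∀ n x y : GL Dt.Idx F2, n * (x * y) * n⁻¹ = (n * x * n⁻¹) * (n * y * n⁻¹) from fun n x y => by group]
      exact mul_mem ha hb
  | inv a _ ha =>
      rw [show ∀ n x : GL Dt.Idx F2, n * x⁻¹ * n⁻¹ = (n * x * n⁻¹)⁻¹ from fun n x => by group]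
      exact inv_mem ha

theorem nbr_not_mem {N : Subgroup (GL Dt.Idx F2)} (hN : Inv N) (hP : ∀ x ∈ N, nn b3 * x * nn b3 ∈ Pm)
    {j : Fin Dt.rank} (hj : (j : ℕ) ∈ [1, 2, 4]) : nn j ∉ N ⊔ Dt.borelSubgroup F2 := by
  intro hmem
  obtain ⟨q, hq, b, hb, e⟩ := mem_sup_borel hN hmem
  obtain ⟨a, ha, t, rfl⟩ := pos_split_simple hc hcomm b3 hb
  set x3 := elX Dt F2 (Dt.simple b3.val) t with hx3
  have hq' : a * x3 * nn j ∈ N := by
    have h := inv_mem hq
    rw [show q = nn j * (a * x3)⁻¹ by rw [e]; group, mul_inv_rev, inv_inv, nn_inv] at h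
    exact h
  have h1 := hP _ hq'
  set u : F2 := (eta Dt E8.tabs b3 (Dt.simple b3.val) : F2) * t with hu
  have hxn : nn b3 * x3 * nn b3 = elX Dt F2 (Dt.neg (Dt.simple b3.val)) u := by
    conv_lhs => rw [← nn_inv b3]
    rw [nn_inv b3]
    conv_lhs => arg 2; rw [← nn_inv b3]
    rw [nn, hx3, nOne_conj_elX hc b3 (simple_lt hc b3.2), sig_simple hc]
  have hy : elX Dt F2 (Dt.neg (Dt.simple b3.val)) u * (nn b3 * nn j * nn b3) ∈ Pm := by
    have ha' : nn b3 * a * nn b3 ∈ Pm := by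
      conv => arg 2; arg 2; rw [← nn_inv b3]
      exact borel_le_Pm (pos_le_borel hc (uGen_mono (fun r _ h => h.1) (nOne_conj_comp hc b3 ha)))
    rw [mul_assoc a x3, conj_prod b3 a (x3 * nn j), conj_prod b3 x3 (nn j), hxn] at h1
    have := mul_mem (inv_mem ha') h1
    rwa [inv_mul_cancel_left] at this
  have ht := allList_iff.1 nbr_ok (j : ℕ) hj
  simp only [Bool.and_eq_true, decide_eq_true_eq] at ht
  obtain ⟨⟨hr, hlr, hwj⟩, hall⟩ := ht
  set r := sN j (chevE8.simple 3) with hrdef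
  set m := Dt.neg (Dt.simple b3.val) with hm
  have hmlt : m < Dt.nroots := neg_lt hc (simple_lt hc b3.2)
  have hjne : (j : ℕ) ≠ 3 := by
    rintro e3; rw [e3] at hj; simp at hj
  have hwm : rv Dt E8.tabs m = -Pi.single b3 1 := by rw [hm, rv_neg hc (simple_lt hc b3.2), rv_simple hc]
  have hsupp : ∀ l : Fin Dt.rank, l ≠ b3 → l ≠ j → rv Dt E8.tabs r l = 0 := by
    intro l h1 h2
    show rv Dt E8.tabs (sig Dt E8.tabs j (Dt.simple b3.val)) l = 0
    rw [rv_sig hc j (simple_lt hc b3.2), rv_simple hc]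
    unfold CfsgLib.Chev.refl
    rw [Pi.sub_apply, Pi.single_eq_of_ne h1, Pi.single_eq_of_ne h2]
    simp
  have hQ : ∀ v, v < Dt.nroots → (v = r ∨ CombRoot Dt E8.tabs m r v) → sigs Dt E8.tabs [b3, j, b3] v < Dt.nroots / 2 := by
    intro v hv hQv
    have h := allNat_iff.1 hall v hv
    have hcond : 1 ≤ rv Dt E8.tabs v j ∧ ∀ l : Fin Dt.rank, l ≠ b3 → l ≠ j → rv Dt E8.tabs v l = 0 := by
      rcases hQv with rfl | ⟨-, i, k, hi, hk, e⟩
      · exact ⟨hwj, hsupp⟩
      · refine ⟨?_, fun l h1 h2 => ?_⟩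
        · rw [e, Pi.add_apply, Pi.smul_apply, Pi.smul_apply, hwm, Pi.neg_apply,
            Pi.single_eq_of_ne (fun e' => hjne (by rw [e']; rfl))]
          have : (1 : ℤ) ≤ rv Dt E8.tabs r j := hwj
          simp only [neg_zero, smul_zero, zero_add, smul_eq_mul]
          have hk' : (1 : ℤ) ≤ k := by exact_mod_cast hk
          nlinarith
        · rw [e, Pi.add_apply, Pi.smul_apply, Pi.smul_apply, hwm, Pi.neg_apply, Pi.single_eq_of_ne h1,
            hsupp l h1 h2]
          simp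
    have hb' : (decide (1 ≤ wt chevE8 E8.tabs v j) && allNat 8 fun l =>
        Nat.beq l 3 || Nat.beq l j || decide (wt chevE8 E8.tabs v l = 0)) = true := by
      rw [Bool.and_eq_true, decide_eq_true_eq, allNat_iff]
      refine ⟨hcond.1, fun l hl => ?_⟩
      simp only [Bool.or_eq_true, nat_beq_iff, decide_eq_true_eq]
      by_cases h1 : l = 3
      · exact Or.inl (Or.inl h1)
      by_cases h2 : l = (j : ℕ)
      · exact Or.inl (Or.inr h2)
      exact Or.inr (hcond.2 ⟨l, hl⟩ (fun e' => h1 (congrArg Fin.val e')) (fun e' => h2 (congrArg Fin.val e')))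
    rw [hb', cond_true, nat_blt_iff] at h
    rw [nroots_half]
    exact h
  have hrm : r ≠ m := by
    intro e'
    have h1 : (1 : ℤ) ≤ rv Dt E8.tabs r b3 := hlr
    rw [e', hwm, Pi.neg_apply, Pi.single_eq_same] at h1
    omega
  have hrn : r ≠ Dt.neg m := by
    intro e'
    have h1 : (1 : ℤ) ≤ rv Dt E8.tabs r j := hwj
    rw [e', rv_neg hc hmlt, hwm, neg_neg, Pi.single_eq_of_ne (fun e' => hjne (by rw [e']; rfl))] at h1
    omega
  have hr1 : elX Dt F2 r 1 ∈ U 1 := elX_mem_uGen hr (by show ((1 : ℕ) : ℤ) ≤ levN r; exact_mod_cast hlr) 1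
  set z := (nn b3 * nn j * nn b3) * elX Dt F2 m (-u) with hz
  have hzP : z ∈ Pm := by
    have h2 := inv_mem hy
    rwa [mul_inv_rev, elX_inv hc F2 hmlt, show (nn b3 * nn j * nn b3)⁻¹ = nn b3 * nn j * nn b3 by
      simp [mul_inv_rev, nn_inv, mul_assoc]] at h2
  have hpos := U_le_pos le_rfl (U_conj le_rfl hzP hr1)
  have hnP : nProd Dt F2 [b3, j, b3] = nn b3 * nn j * nn b3 := by
    rw [nProd_cons, nProd_cons, nProd_cons]; simp [nProd, nn, mul_assoc]
  have hneg : z * elX Dt F2 r 1 * z⁻¹ ∈ uGen Dt F2 (fun s => s < Dt.nroots / 2) := by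
    have hin : elX Dt F2 m (-u) * elX Dt F2 r 1 * (elX Dt F2 m (-u))⁻¹ ∈
        uGen Dt F2 (fun v => v = r ∨ CombRoot Dt E8.tabs m r v) := by
      rw [elX_conj_elX hc hcomm hmlt hr hrm hrn]
      exact mul_mem (elX_mem_uGen hr (P := fun v => v = r ∨ CombRoot Dt E8.tabs m r v) (Or.inl rfl) _)
        (wordGL_mem hc hmlt hr (fun v hv => Or.inr hv) _ _)
    rw [hz, ← hnP, show ∀ n x y : GL Dt.Idx F2, n * x * y * (n * x)⁻¹ = n * (x * y * x⁻¹) * n⁻¹ from
      fun n x y => by group]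
    exact nProd_conj_uGen [b3, j, b3] hQ hin
  have h0 := borel_inf_neg hc (pos_le_borel hc hpos) hneg
  rw [mul_inv_eq_one, mul_eq_left] at h0
  exact one_ne_zero ((elX_eq_one_iff hc hr (1 : F2)).1 h0)

theorem propagate {N : Subgroup (GL Dt.Idx F2)} (hN : Inv N) {j k : Fin Dt.rank}
    (hjk : ((j : ℕ), (k : ℕ)) ∈ chainPairs) (hk3 : (k : ℕ) ≠ 3) (hmem : nn j ∈ N ⊔ Dt.borelSubgroup F2) :
    nn k ∈ N ⊔ Dt.borelSubgroup F2 := by
  have ht := allList_iff.1 braid_ok _ hjk
  simp only [Bool.and_eq_true, Bool.not_eq_true'] at ht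
  obtain ⟨hne, hbraid⟩ := ht
  obtain ⟨q, hq, b, hb, e⟩ := mem_sup_borel hN hmem
  obtain ⟨a, ha, t, hbi⟩ := pos_split_simple hc hcomm k (inv_mem hb)
  set xk := elX Dt F2 (Dt.simple k.val) t with hxk
  have hq1 : q = nn j * (a * xk) := by rw [← hbi, e]; group
  have hk' := simple_lt hc k.2
  have hxB : xk ∈ Dt.borelSubgroup F2 := elX_mem_borel hc hk' (half_le_simple hc k.2) t
  have h1 := hN _ (borel_le_Pm hxB) _ hq
  set c := nn j * xk * (nn j)⁻¹ * a with hcdef
  have hq2 : nn j * c ∈ N := by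
    rwa [hq1, show xk * (nn j * (a * xk)) * xk⁻¹ = (nn j * nn j) * xk * (nn j * a) by rw [nn_sq]; group,
      show nn j * nn j * xk * (nn j * a) = nn j * (nn j * xk * nn j * a) by group,
      show nn j * xk * nn j = nn j * xk * (nn j)⁻¹ by rw [nn_inv]] at h1
  have hc' : c ∈ uGen Dt F2 (CompRoot Dt k) := by
    refine mul_mem ?_ ha
    rw [hxk, nn, nOne_conj_elX hc j hk']
    have hjk' : (j : ℕ) ≠ k := by
      intro h; rw [h] at hjk
      simp [chainPairs] at hjk
      omega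
    refine elX_mem_uGen (sig_lt hc j hk') ⟨(sig_pos hc j hk' (half_le_simple hc k.2) ?_).1, ?_⟩ _
    · intro h
      have h' := congrFun (congrArg (rv Dt E8.tabs) h) k
      rw [rv_simple hc, rv_simple hc, Pi.single_eq_same, Pi.single_eq_of_ne (fun h' => hjk' (by rw [h']))] at h'
      exact one_ne_zero h'
    · intro h
      have : Nat.beq (sN j (chevE8.simple k)) (chevE8.simple k) = true := nat_beq_iff.2 h
      rw [this] at hne; exact Bool.noConfusion hne
  have h2 := hN _ (nn_mem_Pm hk3) _ hq2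
  have hc'' : nn k * c * (nn k)⁻¹ ∈ Dt.borelSubgroup F2 :=
    pos_le_borel hc (uGen_mono (fun r _ h => h.1) (nOne_conj_comp hc k hc'))
  have h3 : nn k * nn j * nn k ∈ N ⊔ Dt.borelSubgroup F2 := by
    have := mul_mem (Subgroup.mem_sup_left (T := Dt.borelSubgroup F2) h2) (Subgroup.mem_sup_right (inv_mem hc''))
    rwa [show nn k * (nn j * c) * (nn k)⁻¹ * (nn k * c * (nn k)⁻¹)⁻¹ = nn k * nn j * (nn k)⁻¹ by group,
      nn_inv] at this
  have h4 : nn j * (nn k * nn j * nn k) * nn j = nn k := by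
    have h := nProd_div_mem (F := F2) hc (L := [j, k, j, k, j]) (M := [k]) (fun r hr => by
      exact nat_beq_iff.1 (allNat_iff.1 hbraid r hr))
    rw [diag_bot, Subgroup.mem_bot, mul_inv_eq_one] at h
    simpa [nProd, nn, mul_assoc] using h
  rw [← h4]
  exact mul_mem (mul_mem hmem h3) hmem

theorem le_U_one {N : Subgroup (GL Dt.Idx F2)} (hN : Inv N) (hNP : N ≤ Pm)
    (hP : ∀ x ∈ N, nn b3 * x * nn b3 ∈ Pm) : N ≤ U 1 := by
  have hnone : ∀ i : Fin Dt.rank, nn i ∉ N ⊔ Dt.borelSubgroup F2 := by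
    intro i hi
    have h2 : ∀ {j k : Fin Dt.rank}, ((j : ℕ), (k : ℕ)) ∈ chainPairs → (k : ℕ) ≠ 3 →
        nn j ∈ N ⊔ Dt.borelSubgroup F2 → nn k ∈ N ⊔ Dt.borelSubgroup F2 := fun a b c => propagate hN a b c
    have hb : ∀ {j : Fin Dt.rank}, (j : ℕ) ∈ [1, 2, 4] → nn j ∉ N ⊔ Dt.borelSubgroup F2 := fun h => nbr_not_mem hN hP h
    obtain ⟨i, hi8⟩ := i
    rw [rank_val] at hi8
    interval_cases i
    · exact hb (j := fi 2) (by decide) (h2 (j := ⟨0, by decide⟩) (k := fi 2) (by decide) (by decide) hi)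
    · exact hb (j := fi 1) (by decide) hi
    · exact hb (j := fi 2) (by decide) hi
    · exact nn3_not_mem ((sup_le hNP borel_le_Pm) hi)
    · exact hb (j := fi 4) (by decide) hi
    · exact hb (j := fi 4) (by decide) (h2 (j := ⟨5, by decide⟩) (k := fi 4) (by decide) (by decide) hi)
    · exact hb (j := fi 4) (by decide) (h2 (j := fi 5) (k := fi 4) (by decide) (by decide)
        (h2 (j := ⟨6, by decide⟩) (k := fi 5) (by decide) (by decide) hi))
    · exact hb (j := fi 4) (by decide) (h2 (j := fi 5) (k := fi 4) (by decide) (by decide)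
        (h2 (j := fi 6) (k := fi 5) (by decide) (by decide)
          (h2 (j := ⟨7, by decide⟩) (k := fi 6) (by decide) (by decide) hi)))
  have hle : N ≤ uGen Dt F2 (fun r => Dt.nroots / 2 ≤ r) := by
    rw [← borel_eq]
    exact le_sup_left.trans (le_of_nn le_sup_right ((sup_le hNP borel_le_Pm).trans Pm_le_group) le_rfl
      fun i hi => absurd hi (hnone i))
  exact (le_radical_of_le_pos hc hcomm (J := J3) hle hN).trans
    (uGen_mono fun r hr h => (outRoot_iff_lev hr).1 h)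

/-- the step from level l to level l + 1 -/
theorem le_U_succ {N : Subgroup (GL Dt.Idx F2)} (hN : Inv N) {l : ℕ} (hl : 1 ≤ l) (hl6 : l ≤ 6) (hU : N ≤ U l)
    (h1 : l = 1 → ∀ x ∈ N, nn b3 * x * nn b3 ∈ Pm) (h2 : 2 ≤ l → ∀ x ∈ N, nn b3 * x * nn b3 ∈ U l) :
    N ≤ U (l + 1) := by
  let Good : ℕ → Prop := fun r => ∀ x ∈ N, x ∈ uGen Dt F2 (LvX l r)
  have hmove : ∀ (j : Fin Dt.rank), (j : ℕ) ≠ 3 → ∀ r, r < 240 → Good r → Good (sN j r) := by
    intro j hj r hr hG x hx
    have h := hG _ (hN _ (nn_mem_Pm hj) _ hx)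
    have h' := nn_conj j (Q := LvX l (sN j r)) (fun s hs hS => ?_) h
    · rwa [show nn j * (nn j * x * (nn j)⁻¹) * (nn j)⁻¹ = (nn j * nn j) * x * (nn j * nn j)⁻¹ by group, nn_sq,
        one_mul, inv_one, mul_one] at h'
    · refine ⟨?_, fun e => hS.2 ?_⟩
      · show (l : ℤ) ≤ levN (sN j s)
        rw [lev_sig hj hs]; exact hS.1
      · have := congrArg (sig Dt E8.tabs j) e
        simp only [sN] at this; rwa [sig_sig hc j hs, sig_sig hc j hr] at this
  have htrans : ∀ n r r', r + r' ≤ n → r < 240 → r' < 240 → levN r = l → levN r' = l → Good r → Good r' := by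
    intro n
    induction n using Nat.strong_induction_on with
    | _ n ih =>
      intro r r' hn hr hr' hlr hlr' hG
      have hd : ∀ s, s < 240 → levN s = l → (∃ j : Fin Dt.rank, (j : ℕ) ≠ 3 ∧ sN j s < s) ∨
          ∀ u, u < 240 → levN u = l → s ≤ u := by
        intro s hs hls
        have h := allNat_iff.1 descent_ok s hs
        rw [decide_eq_false (by rw [hls]; omega), cond_false, Bool.or_eq_true] at h
        rcases h with h | h
        · left
          obtain ⟨j, hj, hj'⟩ := anyNat_iff.1 h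
          simp only [Bool.and_eq_true, Bool.not_eq_true', nat_blt_iff] at hj'
          refine ⟨⟨j, hj⟩, fun e => ?_, hj'.2⟩
          rw [show Nat.beq j 3 = true from nat_beq_iff.2 e] at hj'
          exact Bool.noConfusion hj'.1
        · right
          intro u hu hlu
          have h' := allNat_iff.1 h u hu
          rw [decide_eq_true (by rw [hlu, hls]), cond_true, nat_ble_iff] at h'
          exact h'
      rcases hd r hr hlr with ⟨j, hj, hlt⟩ | hmin
      · exact ih (sN j r + r') (by omega) _ _ le_rfl (sig_lt hc j hr) hr' (by rw [lev_sig hj hr, hlr]) hlr'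
          (hmove j hj r hr hG)
      · rcases hd r' hr' hlr' with ⟨j, hj, hlt⟩ | hmin'
        · have := ih (r + sN j r') (by omega) _ _ le_rfl hr (sig_lt hc j hr') hlr (by rw [lev_sig hj hr', hlr']) hG
          have h3 := hmove j hj _ (sig_lt hc j hr') this
          simp only [sN] at h3; rwa [sig_sig hc j hr'] at h3
        · have : r = r' := le_antisymm (hmin r' hr' hlr') (hmin' r hr hlr)
          exact this ▸ hG
  obtain ⟨b, hb, hb'⟩ := anyNat_iff.1 (allNat_iff.1 bad_ok (l - 1) (by omega))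
  have hlb : levN b = l := by
    by_contra hne
    rw [decide_eq_false (by omega), cond_false] at hb'
    exact Bool.noConfusion hb'
  rw [decide_eq_true (by omega), cond_true, decide_eq_true_eq] at hb'
  have hGood : ∃ r, r < 240 ∧ levN r = l ∧ Good r := by
    rcases eq_or_lt_of_le hl with e | hl2
    · subst e
      have hα := simple_lt hc b3.2
      have hlα : levN (Dt.simple b3.val) = ((1 : ℕ) : ℤ) := by
        rw [lev_eq, rv_simple hc, Pi.single_eq_same]; rfl
      refine ⟨Dt.simple b3.val, hα, hlα, fun x hx => ?_⟩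
      obtain ⟨a, ha, y, hy, rfl⟩ := uGen_split hc hcomm (closedPos_lv (le_refl 1)) (Q := fun r => r = Dt.simple b3.val)
        (R := LvX 1 (Dt.simple b3.val))
        (fun r _ h => by by_cases h' : r = Dt.simple b3.val; exacts [Or.inl h', Or.inr ⟨h, h'⟩]) (hU hx)
      rw [← rootSubgroup_eq hc hα, mem_rootSubgroup hc hα] at ha
      obtain ⟨t, rfl⟩ := ha
      have h := h1 rfl _ hx
      rw [conj_prod b3 (elX Dt F2 (Dt.simple b3.val) t) y] at h
      have hy' : nn b3 * y * (nn b3)⁻¹ ∈ Pm := by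
        refine borel_le_Pm (pos_le_borel hc (uGen_mono (fun r _ h => h.1) (nOne_conj_comp hc b3 ?_)))
        exact uGen_mono (fun r hr h => ⟨by rw [nroots_half]; exact lv_pos le_rfl hr h.1, h.2⟩) hy
      rw [nn_inv] at hy'
      have h' := mul_mem h (inv_mem hy')
      rw [mul_inv_cancel_right, show nn b3 * elX Dt F2 (Dt.simple b3.val) t * nn b3 =
        nn b3 * elX Dt F2 (Dt.simple b3.val) t * (nn b3)⁻¹ by rw [nn_inv], nn, nOne_conj_elX hc b3 hα,
        sig_simple hc] at h'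
      by_cases ht : t = 0
      · rw [ht, elX_zero hc F2 hα, one_mul]; exact hy
      · exfalso
        refine elX_neg3_not_mem ?_ h'
        rcases eta_cast hc (F := F2) b3 hα with e | e <;> simp [e, ht]
    · refine ⟨b, hb, hlb, fun x hx => ?_⟩
      have hcl : ClosedPos Dt E8.tabs (fun s => (2 : ℤ) ≤ levN s + 1 ∧ Lv l (sN 3 s) ∧ 120 ≤ s) := by
        refine ⟨fun s _ h => h.2.2, fun u v w hu hv hPu hPv hw => ?_⟩
        obtain ⟨i, k, hi, hk, e⟩ := lev_comb hw
        obtain ⟨hwn, i', k', hi', hk', e'⟩ := hw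
        have h3 : levN (sN 3 w) = (i' : ℤ) * levN (sN 3 u) + (k' : ℤ) * levN (sN 3 v) := by
          show rv Dt E8.tabs (sig Dt E8.tabs b3 w) b3 = _ * rv Dt E8.tabs (sig Dt E8.tabs b3 u) b3 +
            _ * rv Dt E8.tabs (sig Dt E8.tabs b3 v) b3
          rw [rv_sig hc b3 hwn, rv_sig hc b3 hu, rv_sig hc b3 hv, e', refl_add, refl_smul, refl_smul]
          simp
        have a1 : (l : ℤ) ≤ levN (sN 3 u) := hPu.2.1
        have a2 : (l : ℤ) ≤ levN (sN 3 v) := hPv.2.1
        have b1 := hPu.1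
        have b2 := hPv.1
        have hi'' : (1 : ℤ) ≤ i' := by exact_mod_cast hi'
        have hk'' : (1 : ℤ) ≤ k' := by exact_mod_cast hk'
        have hic : (1 : ℤ) ≤ i := by exact_mod_cast hi
        have hkc : (1 : ℤ) ≤ k := by exact_mod_cast hk
        have h4 : (2 : ℤ) ≤ levN w := by rw [e]; nlinarith
        refine ⟨by omega, ?_, pos_of_lev hwn (by omega)⟩
        show (l : ℤ) ≤ levN (sN 3 w)
        rw [h3]; nlinarith
      have hx2 := nn_conj b3 (Q := fun s => (2 : ℤ) ≤ levN s + 1 ∧ Lv l (sN 3 s) ∧ 120 ≤ s) (fun s hs hS => ?_)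
        (h2 hl2 _ hx)
      · rw [show nn b3 * (nn b3 * x * nn b3) * (nn b3)⁻¹ = (nn b3 * nn b3) * x by group, nn_sq, one_mul] at hx2
        refine uGen_mono ?_ (uGen_inf (closedPos_lv hl) hcl (hU hx) hx2)
        rintro s _ ⟨h, -, h', -⟩
        refine ⟨h, ?_⟩
        rintro rfl
        simp only [Lv] at h'
        omega
      · have hS' : (l : ℤ) ≤ levN s := hS
        have h4 := lev_sig3 hs (by omega)
        have hl2' : (2 : ℤ) ≤ l := by exact_mod_cast hl2
        refine ⟨by show (2 : ℤ) ≤ levN (sN 3 s) + 1; omega, ?_, pos_of_lev (sig_lt hc b3 hs) (by show 1 ≤ levN (sN 3 s); omega)⟩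
        show (l : ℤ) ≤ levN (sN 3 (sN 3 s))
        rw [show sN 3 (sN 3 s) = s from sig_sig hc b3 hs]; exact hS'
  obtain ⟨r0, hr0, hlr0, hG0⟩ := hGood
  exact fun x hx => U_succ_of_forall hl (hU hx) fun r hr hlr =>
    htrans _ r0 r le_rfl hr0 hr hlr0 hlr hG0 x hx

end CfsgLib.IterCore
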