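import Cfsg.Agent.Lib.IterCore.Cores
/-
Iterated cores from a filtration of a maximal subgroup that sinks one level at a time.
-/
set_option autoImplicit false

namespace CfsgLib.IterCore

variable {H : Type*} [Group H]

/-- the data of a filtration P ≥ U 1 ≥ ... ≥ U 7 = 1 with an involution n moving each level up by at most one -/
structure LevelData (Γ P : Subgroup H) (n : H) (U : ℕ → Subgroup H) : Prop where
  n_mem : n ∈ Γ
  n_sq : n * n = 1
  n_not : n ∉ P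
  le_group : P ≤ Γ
  max : ∀ M, P ≤ M → M ≤ Γ → M = P ∨ M = Γ
  le_P : ∀ l, 1 ≤ l → U l ≤ P
  mono : ∀ l m, l ≤ m → U m ≤ U l
  conj : ∀ l, 1 ≤ l → ∀ p ∈ P, ∀ x ∈ U l, p * x * p⁻¹ ∈ U l
  sub : ∀ l, 1 ≤ l → ∀ x ∈ U (l + 1), n * x * n ∈ U l
  top : U 7 = ⊥
  six : ∃ x ∈ U 6, x ≠ 1
  one : ∀ N : Subgroup H, (∀ p ∈ P, ∀ x ∈ N, p * x * p⁻¹ ∈ N) → N ≤ P → (∀ x ∈ N, n * x * n ∈ P) → N ≤ U 1
  succ : ∀ N : Subgroup H, (∀ p ∈ P, ∀ x ∈ N, p * x * p⁻¹ ∈ N) → ∀ l, 1 ≤ l → l ≤ 6 → N ≤ U l →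
    (l = 1 → ∀ x ∈ N, n * x * n ∈ P) → (2 ≤ l → ∀ x ∈ N, n * x * n ∈ U l) → N ≤ U (l + 1)

namespace LevelData

variable {Γ P : Subgroup H} {n : H} {U : ℕ → Subgroup H} (d : LevelData Γ P n U)
include d

theorem exists_example [Finite H] :
    ∃ (M₁ M₂ : Subgroup ↥Γ) (g : ↥Γ) (A B : ℕ → Subgroup ↥Γ),
      IsCoatom M₁ ∧ M₂ = M₁.map (MulAut.conj g).toMonoidHom ∧ M₁ ≠ M₂ ∧ M₁.normalCore = ⊥ ∧ A 0 = M₁ ∧ B 0 = M₂ ∧
      (∀ i, A (i + 1) = ((A i ⊓ B i).subgroupOf M₁).normalCore.map M₁.subtype) ∧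
      (∀ i, B (i + 1) = ((A i ⊓ B i).subgroupOf M₂).normalCore.map M₂.subtype) ∧ A 6 = ⊥ ∧ A 5 ≠ ⊥ := by
  set g : ↥Γ := ⟨n, d.n_mem⟩ with hgdef
  set M : Subgroup ↥Γ := P.subgroupOf Γ
  have hsq : g * g = 1 := Subtype.ext d.n_sq
  have hmap : ∀ {X : Subgroup ↥Γ} {y : ↥Γ}, y ∈ X.map (MulAut.conj g).toMonoidHom ↔ g * y * g ∈ X := by
    intro X y
    rw [Subgroup.mem_map_equiv, MulAut.conj_symm_apply, inv_eq_of_mul_eq_one_left hsq]
  have hcoatom : IsCoatom M := by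
    refine ⟨fun h => ?_, fun L hL => ?_⟩
    · have : g ∈ M := by rw [h]; exact Subgroup.mem_top _
      exact d.n_not (Subgroup.mem_subgroupOf.1 this)
    · have hPM : P ≤ L.map Γ.subtype := fun x hx =>
        ⟨⟨x, d.le_group hx⟩, hL.le (Subgroup.mem_subgroupOf.2 hx), rfl⟩
      rcases d.max _ hPM (Subgroup.map_subtype_le L) with h | h
      · exact absurd (le_antisymm hL.le fun x hx => Subgroup.mem_subgroupOf.2 (h ▸ ⟨x, hx, rfl⟩)) hL.ne
      · rw [eq_top_iff]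
        intro x _
        have hx : (x : H) ∈ L.map Γ.subtype := h.symm.le x.2
        obtain ⟨y, hy, e⟩ := hx
        exact Subtype.ext e ▸ hy
  have hlower : ∀ i, (U (i + 1)).subgroupOf Γ ≤ iterA M g i := by
    intro i
    induction i with
    | zero => exact fun x hx => Subgroup.mem_subgroupOf.2 (d.le_P 1 le_rfl (Subgroup.mem_subgroupOf.1 hx))
    | succ i ih =>
        intro x hx
        rw [Subgroup.mem_subgroupOf] at hx
        refine mem_coreIn.2 ⟨Subgroup.mem_subgroupOf.2 (d.le_P _ (by omega) hx), fun m hm => ?_⟩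
        have h1 : ((m * x * m⁻¹ : ↥Γ) : H) ∈ U (i + 1 + 1) :=
          d.conj _ (by omega) _ (Subgroup.mem_subgroupOf.1 hm) _ hx
        exact ⟨ih (Subgroup.mem_subgroupOf.2 (d.mono _ _ (by omega) h1)),
          hmap.2 (ih (Subgroup.mem_subgroupOf.2 (d.sub _ (by omega) _ h1)))⟩
  have hinv : ∀ i, ∀ p ∈ P, ∀ x ∈ (iterA M g i).map Γ.subtype, p * x * p⁻¹ ∈ (iterA M g i).map Γ.subtype := by
    rintro i p hp x ⟨y, hy, rfl⟩
    exact ⟨_, iterA_conj M g i ⟨p, d.le_group hp⟩ (Subgroup.mem_subgroupOf.2 hp) y hy, rfl⟩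
  have hstep : ∀ i, ∀ y ∈ iterA M g (i + 1), y ∈ iterA M g i ∧ g * y * g ∈ iterA M g i := by
    intro i y hy
    have h := (mem_coreIn.1 hy).2 1 (one_mem _)
    rw [one_mul, inv_one, mul_one] at h
    exact ⟨h.1, hmap.1 h.2⟩
  have hupper : ∀ i, i < 6 → (iterA M g (i + 1)).map Γ.subtype ≤ U (i + 2) := by
    intro i
    induction i with
    | zero =>
        intro _
        have hNP : (iterA M g 1).map Γ.subtype ≤ P := by
          rintro x ⟨y, hy, rfl⟩
          exact Subgroup.mem_subgroupOf.1 (iterA_le M g 1 hy)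
        have hP : ∀ x ∈ (iterA M g 1).map Γ.subtype, n * x * n ∈ P := by
          rintro x ⟨y, hy, rfl⟩
          exact Subgroup.mem_subgroupOf.1 ((hstep 0 y hy).2)
        exact d.succ _ (hinv 1) 1 le_rfl (by norm_num) (d.one _ (hinv 1) hNP hP) (fun _ => hP)
          (fun h => absurd h (by norm_num))
    | succ i ih =>
        intro hi
        have ih' := ih (by omega)
        refine d.succ _ (hinv (i + 1 + 1)) (i + 2) (by omega) (by omega) ?_ (fun h => absurd h (by omega))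
          (fun _ => ?_)
        · rintro x ⟨y, hy, rfl⟩
          exact ih' ⟨y, (hstep _ y hy).1, rfl⟩
        · rintro x ⟨y, hy, rfl⟩
          exact ih' ⟨g * y * g, (hstep _ y hy).2, rfl⟩
  have h6 : iterA M g 6 = ⊥ := by
    have h := hupper 5 (by norm_num)
    rw [show (5 : ℕ) + 2 = 7 from rfl, d.top, le_bot_iff] at h
    exact (Subgroup.map_eq_bot_iff_of_injective _ (Subgroup.subtype_injective _)).1 h
  have h5 : iterA M g 5 ≠ ⊥ := by
    intro h
    obtain ⟨x, hx, hx1⟩ := d.six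
    have hG : x ∈ Γ := d.le_group (d.le_P 6 (by norm_num) hx)
    have := hlower 5 (Subgroup.mem_subgroupOf.2 (show ((⟨x, hG⟩ : ↥Γ) : H) ∈ U (5 + 1) from hx))
    rw [h, Subgroup.mem_bot] at this
    exact hx1 (congrArg Subtype.val this)
  have hcore : M.normalCore = ⊥ := le_bot_iff.1 (h6 ▸ core_le_iterA M g 6)
  have hne : M ≠ M.map (MulAut.conj g).toMonoidHom := by
    intro h
    have hg : g ∈ Subgroup.normalizer (M : Set ↥Γ) := by
      rw [Subgroup.mem_normalizer_iff]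
      intro x
      rw [inv_eq_of_mul_eq_one_left hsq, ← hmap, ← h]
    have hgM : g ∉ M := fun hm => d.n_not (Subgroup.mem_subgroupOf.1 hm)
    have htop : Subgroup.normalizer (M : Set ↥Γ) = ⊤ :=
      hcoatom.2 _ (lt_of_le_of_ne Subgroup.le_normalizer fun e => hgM (e ▸ hg))
    have : M.Normal := Subgroup.normalizer_eq_top_iff.1 htop
    have hM : M = ⊥ := by
      rw [← hcore]; exact (Subgroup.normalCore_eq_self M).symm
    exact h5 (le_bot_iff.1 (hM ▸ iterA_le M g 5))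
  exact ⟨M, M.map (MulAut.conj g).toMonoidHom, g, iterA M g,
    fun i => (iterA M g i).map (MulAut.conj g).toMonoidHom, hcoatom, rfl, hne, hcore, rfl, rfl,
    fun _ => rfl, fun i => iterB_succ M hsq i, h6, h5⟩

end LevelData

end CfsgLib.IterCore
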