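import Cfsg.Agent.Lib.IterCore.Descent
import Cfsg.Agent.Lib.IterCore.LevelData
/-
E8(2) on the cosets of its branch-node parabolic: the sixth iterated core is trivial, the fifth is not.
-/
set_option autoImplicit false
set_option linter.unusedSectionVars false
set_option maxRecDepth 4000

namespace CfsgLib.IterCore

open Cfsg.Lie CfsgLib.Chev

local notation "F2" => ZMod 2

attribute [local irreducible] chevE8SimpleIdx chevE8NegIdx chevE8Coroot chevE8CartanSR chevE8Chain E8.tabs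

theorem exists_six : ∃ x ∈ U 6, x ≠ 1 := by
  obtain ⟨r, hr, hr'⟩ := anyNat_iff.1 (allNat_iff.1 bad_ok 5 (by norm_num))
  have hlev : levN r = 6 := by
    by_contra hne
    rw [decide_eq_false (by push_cast; omega), cond_false] at hr'
    exact Bool.noConfusion hr'
  refine ⟨elX Dt F2 r 1, elX_mem_uGen hr (P := Lv 6) (by show ((6 : ℕ) : ℤ) ≤ levN r; omega) 1, fun h => ?_⟩
  exact one_ne_zero ((elX_eq_one_iff hc hr (1 : F2)).1 h)

theorem levelData : LevelData (Dt.group F2) Pm (nn b3) U where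
  n_mem := nn_mem_group b3
  n_sq := nn_sq b3
  n_not := nn3_not_mem
  le_group := Pm_le_group
  max := fun _ h1 h2 => eq_of_Pm_le h1 h2
  le_P := fun _ hl => U_le_Pm hl
  mono := fun _ _ h => U_mono h
  conj := fun _ hl _ hp _ hx => U_conj hl hp hx
  sub := fun l hl x hx => by have := U_conj_sub hl hx; rwa [nn_inv] at this
  top := U_seven
  six := exists_six
  one := fun _ hN hNP hP => le_U_one hN hNP hP
  succ := fun _ hN _ hl hl6 hU h1 h2 => le_U_succ hN hl hl6 hU h1 h2

theorem exists_example :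
    ∃ (G : Type) (_ : Group G) (_ : Finite G) (M₁ M₂ : Subgroup G) (g : G) (A B : ℕ → Subgroup G),
      IsCoatom M₁ ∧ M₂ = M₁.map (MulAut.conj g).toMonoidHom ∧ M₁ ≠ M₂ ∧ M₁.normalCore = ⊥ ∧ A 0 = M₁ ∧ B 0 = M₂ ∧
      (∀ i, A (i + 1) = ((A i ⊓ B i).subgroupOf M₁).normalCore.map M₁.subtype) ∧
      (∀ i, B (i + 1) = ((A i ⊓ B i).subgroupOf M₂).normalCore.map M₂.subtype) ∧ A 6 = ⊥ ∧ A 5 ≠ ⊥ :=
  ⟨↥(Dt.group F2), inferInstance, inferInstance, levelData.exists_example⟩

end CfsgLib.IterCore
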