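import Cfsg.Agent.Lib.IterCore.Checks
/-
The level filtration of the radical of the branch-node parabolic of E8(2).
-/
set_option autoImplicit false
set_option linter.unusedSectionVars false
set_option maxRecDepth 4000

namespace CfsgLib.IterCore

open Cfsg.Lie CfsgLib.Chev

local notation "F2" => ZMod 2

abbrev Dt : ChevalleyDatum := chevE8

theorem hc : Checked Dt E8.tabs := E8.checked

theorem hcomm : CommOne Dt E8.tabs := commOne_of_commCheck E8.checked E8.comm_ok E8.short_ok

/-- a fundamental index -/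
def fi (i : ℕ) (h : i < 8 := by decide) : Fin Dt.rank := ⟨i, h⟩

abbrev b3 : Fin Dt.rank := fi 3

theorem nroots_half : Dt.nroots / 2 = 120 := rfl

theorem nroots_val : Dt.nroots = 240 := rfl

theorem rank_val : Dt.rank = 8 := rfl

theorem lev_eq (r : ℕ) : levN r = rv Dt E8.tabs r b3 := rfl

/-- the n-element of a fundamental root -/
noncomputable def nn (i : Fin Dt.rank) : GL Dt.Idx F2 := elN Dt F2 (Dt.simple i.val) 1

theorem lev_le_six {r : ℕ} (hr : r < 240) : levN r ≤ 6 := by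
  have h := allNat_iff.1 max_ok r hr
  simp only [Bool.and_eq_true, decide_eq_true_eq] at h
  exact h.1

theorem lev_sig3 {r : ℕ} (hr : r < 240) (h2 : 2 ≤ levN r) : levN r - 1 ≤ levN (sN 3 r) := by
  have h := allNat_iff.1 max_ok r hr
  simp only [Bool.and_eq_true, decide_eq_true_eq] at h
  omega

theorem lev_sig {j : Fin Dt.rank} (hj : (j : ℕ) ≠ 3) {r : ℕ} (hr : r < 240) : levN (sN j r) = levN r := by
  have h := allNat_iff.1 keep_ok j j.2
  simp only [Bool.or_eq_true, nat_beq_iff] at h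
  rcases h with h | h
  · exact absurd h hj
  · exact decide_eq_true_eq.mp (allNat_iff.1 h r hr)

theorem pos_of_lev {r : ℕ} (hr : r < 240) (h : 1 ≤ levN r) : 120 ≤ r := by
  by_contra hh
  have h1 : rv Dt E8.tabs r b3 ≤ 0 := (((root_spec hc hr).2.2.2.2 3 (by decide)).1 (by rw [nroots_half]; omega)).2
  rw [← lev_eq] at h1; omega

theorem lev_nonneg {r : ℕ} (hr : r < 240) (h : 120 ≤ r) : 0 ≤ levN r := by
  have h1 : 0 ≤ rv Dt E8.tabs r b3 := rv_nonneg hc hr h b3
  rwa [← lev_eq] at h1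

theorem lev_comb {r s v : ℕ} (h : CombRoot Dt E8.tabs r s v) :
    ∃ i j : ℕ, 0 < i ∧ 0 < j ∧ levN v = i * levN r + j * levN s := by
  obtain ⟨-, i, j, hi, hj, e⟩ := h
  refine ⟨i, j, hi, hj, ?_⟩
  have := congrFun e b3
  simpa [lev_eq] using this

/-- roots of level at least `l` -/
def Lv (l : ℕ) (r : ℕ) : Prop := (l : ℤ) ≤ levN r

/-- the filtration of the radical -/
noncomputable def U (l : ℕ) : Subgroup (GL Dt.Idx F2) := uGen Dt F2 (Lv l)

theorem lv_pos {l : ℕ} (hl : 1 ≤ l) {r : ℕ} (hr : r < 240) (h : Lv l r) : 120 ≤ r :=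
  pos_of_lev hr (le_trans (by omega) h)

theorem closedPos_lv {l : ℕ} (hl : 1 ≤ l) : ClosedPos Dt E8.tabs (Lv l) := by
  refine ⟨fun r hr h => lv_pos hl hr h, fun r s v _ _ hr hs hv => ?_⟩
  obtain ⟨i, j, hi, hj, e⟩ := lev_comb hv
  simp only [Lv] at hr hs ⊢
  rw [e]
  nlinarith

theorem U_mono {l m : ℕ} (h : l ≤ m) : U m ≤ U l :=
  uGen_mono fun r _ hr => le_trans (by exact_mod_cast h) hr

theorem U_seven : U 7 = ⊥ := by
  rw [eq_bot_iff, U, uGen_le_iff]
  intro r hr h
  have := lev_le_six hr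
  simp only [Lv] at h; omega

theorem U_le_pos {l : ℕ} (hl : 1 ≤ l) : U l ≤ uGen Dt F2 (fun r => Dt.nroots / 2 ≤ r) :=
  uGen_mono fun r hr h => by rw [nroots_half]; exact lv_pos hl hr h

theorem outRoot_iff_lev {r : ℕ} (hr : r < 240) : OutRoot Dt {i | i ≠ 3} r ↔ Lv 1 r := by
  rw [outRoot_iff hc hr]
  constructor
  · rintro ⟨hp, j, hj, hne⟩
    have hj3 : (j : ℕ) = 3 := by simpa using hj
    have hjb : j = b3 := Fin.ext hj3
    subst hjb
    have := lev_nonneg hr hp
    simp only [Lv, lev_eq] at this ⊢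
    omega
  · intro h
    refine ⟨lv_pos le_rfl hr h, b3, by simp [fi], ?_⟩
    simp only [Lv, lev_eq] at h
    omega

/-- extension of the coordinates by zero -/
theorem uProd_filter (L : List ℕ) (hL : ∀ r ∈ L, r < Dt.nroots) (p : ℕ → Bool) (t : ℕ → F2) :
    uProd Dt F2 L (fun r => if p r then t r else 0) = uProd Dt F2 (L.filter p) t := by
  induction L with
  | nil => rfl
  | cons a L ih =>
      rw [List.forall_mem_cons] at hL
      have ih' := ih hL.2
      simp only [uProd] at ih' ⊢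
      rw [List.map_cons, List.prod_cons, ih']
      by_cases h : p a = true
      · rw [List.filter_cons_of_pos h, List.map_cons, List.prod_cons, if_pos h]
      · rw [List.filter_cons_of_neg h, if_neg h, elX_zero hc F2 hL.1, one_mul]

/-- the intersection of the groups of two closed sets of positive roots -/
theorem uGen_inf {P Q : ℕ → Prop} (hP : ClosedPos Dt E8.tabs P) (hQ : ClosedPos Dt E8.tabs Q)
    {x : GL Dt.Idx F2} (hxP : x ∈ uGen Dt F2 P) (hxQ : x ∈ uGen Dt F2 Q) :
    x ∈ uGen Dt F2 (fun r => P r ∧ Q r) := by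
  classical
  have ext : ∀ (R : ℕ → Prop), ClosedPos Dt E8.tabs R → x ∈ uGen Dt F2 R →
      ∃ t : ℕ → F2, x = uProd Dt F2 (rootsFrom Dt (fun r => Dt.nroots / 2 ≤ r) 0)
        (fun r => if R r then t r else 0) := by
    intro R hR hx
    obtain ⟨t, ht⟩ := uGen_exists hc hcomm hR hx
    refine ⟨t, ?_⟩
    have := uProd_filter (rootsFrom Dt (fun r => Dt.nroots / 2 ≤ r) 0) (fun r hr => (mem_rootsFrom.1 hr).2.1)
      (fun r => decide (R r)) t
    simp only [decide_eq_true_eq] at this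
    rw [this, ht, rootsFrom, rootsFrom, List.filter_filter]
    congr 1
    refine List.filter_congr fun r hr => ?_
    have hrn : r < Dt.nroots := by rw [List.mem_range'_1] at hr; omega
    by_cases h : R r
    · simp [h, hR.1 r hrn h]
    · simp [h]
  obtain ⟨t, ht⟩ := ext P hP hxP
  obtain ⟨t', ht'⟩ := ext Q hQ hxQ
  have heq := uProd_inj hc (P := fun r => Dt.nroots / 2 ≤ r) (fun r _ h => h) 0 (ht.symm.trans ht')
  rw [ht]
  refine Subgroup.list_prod_mem _ fun g hg => ?_
  obtain ⟨r, hr, rfl⟩ := List.mem_map.1 hg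
  obtain ⟨-, hrn, -⟩ := mem_rootsFrom.1 hr
  have e := heq r hr
  by_cases hp : P r
  · by_cases hq : Q r
    · exact elX_mem_uGen hrn (P := fun r => P r ∧ Q r) ⟨hp, hq⟩ _
    · simp only [] at e ⊢; rw [e]
      rw [if_neg hq]
      rw [elX_zero hc F2 hrn]; exact one_mem _
  · dsimp only
    rw [if_neg hp]
    rw [elX_zero hc F2 hrn]; exact one_mem _

/-- roots of level at least `l`, except `r` at the exact level `l` -/
def LvX (l r : ℕ) (s : ℕ) : Prop := Lv l s ∧ s ≠ r

theorem closedPos_lvx {l : ℕ} (hl : 1 ≤ l) {r : ℕ} (hlev : levN r = l) : ClosedPos Dt E8.tabs (LvX l r) := by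
  refine ⟨fun s hs h => (closedPos_lv hl).1 s hs h.1, fun a b v ha hb hPa hPb hv => ⟨(closedPos_lv hl).2 a b v ha hb hPa.1 hPb.1 hv, ?_⟩⟩
  rintro rfl
  obtain ⟨i, j, hi, hj, e⟩ := lev_comb hv
  have h1 : (l : ℤ) ≤ levN a := hPa.1
  have h2 : (l : ℤ) ≤ levN b := hPb.1
  nlinarith

theorem U_succ_of_forall {l : ℕ} (hl : 1 ≤ l) {x : GL Dt.Idx F2} (hx : x ∈ U l)
    (h : ∀ r, r < 240 → levN r = l → x ∈ uGen Dt F2 (LvX l r)) : x ∈ U (l + 1) := by
  classical
  suffices key : ∀ k, x ∈ uGen Dt F2 (fun s => Lv l s ∧ (levN s = l → k ≤ s)) by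
    refine uGen_mono (fun s hs ⟨h1, h2⟩ => ?_) (key 240)
    simp only [Lv] at h1 ⊢
    rcases eq_or_ne (levN s) (l : ℤ) with e | e
    · have := h2 e; rw [nroots_val] at hs; omega
    · push_cast; omega
  intro k
  induction k with
  | zero => exact uGen_mono (fun s _ hs => ⟨hs, fun _ => Nat.zero_le _⟩) hx
  | succ k ih =>
      by_cases hk : k < 240 ∧ levN k = l
      · have hcl : ClosedPos Dt E8.tabs (fun s => Lv l s ∧ (levN s = l → k ≤ s)) := by
          refine ⟨fun s hs h => (closedPos_lv hl).1 s hs h.1, fun a b v ha hb hPa hPb hv =>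
            ⟨(closedPos_lv hl).2 a b v ha hb hPa.1 hPb.1 hv, fun e => ?_⟩⟩
          obtain ⟨i, j, hi, hj, e'⟩ := lev_comb hv
          have h1 : (l : ℤ) ≤ levN a := hPa.1
          have h2 : (l : ℤ) ≤ levN b := hPb.1
          nlinarith
        refine uGen_mono ?_ (uGen_inf hcl (closedPos_lvx hl hk.2) ih (h k hk.1 hk.2))
        rintro s _ ⟨⟨h1, h2⟩, -, h3⟩
        exact ⟨h1, fun e => by have := h2 e; omega⟩
      · refine uGen_mono ?_ ih
        rintro s hs ⟨h1, h2⟩
        refine ⟨h1, fun e => ?_⟩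
        have := h2 e
        rcases Nat.lt_or_ge k s with g | g
        · omega
        · have : k = s := by omega
          subst this
          exact absurd ⟨hs, e⟩ hk

/-- conjugation by a fundamental n-element permutes root sets -/
theorem nn_conj (i : Fin Dt.rank) {P Q : ℕ → Prop} (h : ∀ s, s < 240 → P s → Q (sN i s))
    {x : GL Dt.Idx F2} (hx : x ∈ uGen Dt F2 P) : nn i * x * (nn i)⁻¹ ∈ uGen Dt F2 Q := by
  induction hx using Subgroup.closure_induction with
  | mem x hx =>
      obtain ⟨r, t, hr, hP, rfl⟩ := hx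
      rw [nn, nOne_conj_elX hc i hr]
      exact elX_mem_uGen (sig_lt hc i hr) (h r hr hP) _
  | one => simp
  | mul a b _ _ ha hb =>
      rw [show ∀ n x y : GL Dt.Idx F2, n * (x * y) * n⁻¹ = (n * x * n⁻¹) * (n * y * n⁻¹) from fun n x y => by group]
      exact mul_mem ha hb
  | inv a _ ha =>
      rw [show ∀ n x : GL Dt.Idx F2, n * x⁻¹ * n⁻¹ = (n * x * n⁻¹)⁻¹ from fun n x => by group]
      exact inv_mem ha

theorem diag_bot : Dt.diagonalSubgroup F2 = ⊥ := by
  rw [eq_bot_iff]
  intro g hg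
  obtain ⟨c, rfl⟩ := (mem_diagonal hc).1 hg
  have : c = 1 := funext fun i => Subsingleton.elim _ _
  rw [this, map_one, map_one]
  exact one_mem _

theorem nn_sq (i : Fin Dt.rank) : nn i * nn i = 1 := by
  have h := elN_simple_sq (F := F2) hc i
  rw [diag_bot, Subgroup.mem_bot] at h
  exact h

theorem nn_inv (i : Fin Dt.rank) : (nn i)⁻¹ = nn i := inv_eq_of_mul_eq_one_left (nn_sq i)

end CfsgLib.IterCore
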